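import Groth.Prelude.Def_DRing2
import Groth.Prelude.Def_BlowUp2
import Groth.Agent.TorRegLib.Basic

/-!
# Tor out of affine blow-up algebras
-/

set_option autoImplicit false
set_option linter.style.haveILetI false
set_option linter.unusedSectionVars false
set_option maxHeartbeats 400000

universe u

open CategoryTheory MvPolynomial TorRegLib

noncomputable section

namespace BlowTorLib

variable {A : Type u} [CommRing A]

section Kills

variable {N : ModuleCat.{u} A} (P : ProjectiveResolution N)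

/-- `a` kills the `i`-th homology of `X ⊗ P`. -/
def Kills (a : A) (i : ℕ) (X : Type u) [AddCommGroup X] [Module A X] : Prop :=
  ∀ y : (G P (ModuleCat.of A X)).homology i, a • y = 0

theorem Gmap_zero (X Y : ModuleCat.{u} A) : Gmap P (0 : X ⟶ Y) = 0 := by
  ext j : 1
  refine ModuleCat.hom_ext (TensorProduct.ext' fun m p => ?_)
  show (0 : Y) ⊗ₜ[A] p = 0
  exact TensorProduct.zero_tmul _ _

theorem Gmap_comp {X Y Z : ModuleCat.{u} A} (f : X ⟶ Y) (g : Y ⟶ Z) : Gmap P (f ≫ g) = Gmap P f ≫ Gmap P g := by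
  ext j : 1
  exact ModuleCat.hom_ext (TensorProduct.ext' fun m p => rfl)

theorem kills_of_forall {a : A} {X : Type u} [AddCommGroup X] [Module A X] (h : ∀ x : X, a • x = 0) (i : ℕ) :
    Kills P a i X := fun y => by
  have h1 := homologyMap_Gmap_smul P (ModuleCat.of A X) a i
  rw [show a • 𝟙 (ModuleCat.of A X) = 0 from ModuleCat.hom_ext (LinearMap.ext h), Gmap_zero,
    HomologicalComplex.homologyMap_zero] at h1
  exact (ConcreteCategory.congr_hom h1 y).symm

theorem Kills.mono {a b : A} {i : ℕ} {X : Type u} [AddCommGroup X] [Module A X] (h : Kills P a i X) :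
    Kills P (a * b) i X := fun y => by rw [mul_smul, h]

/-- Multiplication by a factor. -/
theorem Kills.of_factor {a x : A} {i : ℕ} {X : Type u} [AddCommGroup X] [Module A X] (h : Kills P a i X)
    (φ : X →ₗ[A] X) (hφ : ∀ z, x • z = φ (a • z)) : Kills P x i X := fun y => by
  let X' := ModuleCat.of A X
  have h1 := homologyMap_Gmap_smul P X' x i
  rw [show x • 𝟙 X' = (a • 𝟙 X') ≫ ModuleCat.ofHom φ from ModuleCat.hom_ext (LinearMap.ext hφ), Gmap_comp,
    HomologicalComplex.homologyMap_comp, homologyMap_Gmap_smul] at h1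
  refine (ConcreteCategory.congr_hom h1 y).symm.trans ?_
  show (HomologicalComplex.homologyMap (Gmap P (ModuleCat.ofHom φ)) i).hom (a • y) = 0
  rw [h y, map_zero]

variable {X₁ X₂ X₃ : Type u} [AddCommGroup X₁] [Module A X₁] [AddCommGroup X₂] [Module A X₂] [AddCommGroup X₃]
  [Module A X₃] {f : X₁ →ₗ[A] X₂} {g : X₂ →ₗ[A] X₃} (hf : Function.Injective f) (hfg : Function.Exact f g)
  (hg : Function.Surjective g) {a b : A}

include hf hfg hg

theorem ses_shortExact : (ShortComplex.moduleCatMk f g hfg.linearMap_comp_eq_zero).ShortExact :=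
  { exact := (ShortComplex.ShortExact.moduleCat_exact_iff_function_exact _).2 hfg
    mono_f := (ModuleCat.mono_iff_injective _).2 hf
    epi_g := (ModuleCat.epi_iff_surjective _).2 hg }

/-- The quotient, from the middle and the submodule one degree down. -/
theorem kills_right (i : ℕ) (h₂ : Kills P a (i + 1) X₂) (h₁ : Kills P b i X₁) : Kills P (a * b) (i + 1) X₃ := fun y => by
  have hC := cx_shortExact P _ (ses_shortExact hf hfg hg)
  obtain ⟨z, hz⟩ := (ShortComplex.moduleCat_exact_iff _).1 (hC.homology_exact₃ (i + 1) i (by simp)) (b • y) (by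
    refine (map_smul _ b y).trans ?_
    exact h₁ _)
  rw [mul_smul, ← hz]
  exact (map_smul _ a z).symm.trans ((congrArg _ (h₂ z)).trans (map_zero _))

end Kills

section Blow

variable (t : ℕ) (a : Fin (t + 1) → A)

/-- The equations `a₀ yₘ = aₘ`. -/
def eqn (m : Fin t) : MvPolynomial (Fin t) A := C (a 0) * X m - C (a m.succ)

/-- The first `j` equations. -/
def eqns (j : ℕ) : Ideal (MvPolynomial (Fin t) A) := Ideal.span (eqn t a '' {m | (m : ℕ) < j})

local notation "S" => Localization.Away (a 0)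

/-- The fractions `aₘ / a₀`. -/
def frac (m : Fin t) : S :=
  IsLocalization.mk' S (a m.succ) (⟨a 0, Submonoid.mem_powers _⟩ : Submonoid.powers (a 0))

theorem frac_spec (m : Fin t) : algebraMap A S (a 0) * frac t a m = algebraMap A S (a m.succ) :=
  IsLocalization.mk'_spec' S (a m.succ) (⟨a 0, Submonoid.mem_powers _⟩ : Submonoid.powers (a 0))

/-- Translation by the fractions. -/
def shift : MvPolynomial (Fin t) S →ₐ[S] MvPolynomial (Fin t) S := aeval fun m => X m + C (frac t a m)

/-- The inverse translation. -/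
def unshift : MvPolynomial (Fin t) S →ₐ[S] MvPolynomial (Fin t) S := aeval fun m => X m - C (frac t a m)

theorem unshift_shift (p : MvPolynomial (Fin t) S) : unshift t a (shift t a p) = p := by
  have : (unshift t a).comp (shift t a) = AlgHom.id S _ := algHom_ext fun m => by
    simp [shift, unshift]
  exact AlgHom.congr_fun this p

theorem shift_eqn (m : Fin t) :
    shift t a (map (algebraMap A S) (eqn t a m)) = C (algebraMap A S (a 0)) * X m := by
  simp only [eqn, map_sub, map_mul, map_C, map_X, shift, aeval_C, aeval_X, algebraMap_eq]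
  rw [mul_add, ← C_mul, frac_spec, add_sub_cancel_right]

theorem mem_eqns_of_shift {j : ℕ} {x : MvPolynomial (Fin t) A}
    (h : shift t a (map (algebraMap A S) x) ∈
      Ideal.span ((X : Fin t → MvPolynomial (Fin t) S) '' {m | (m : ℕ) < j})) :
    ∃ e : ℕ, (a 0) ^ e • x ∈ eqns t a j := by
  have h1 : map (algebraMap A S) x ∈ (eqns t a j).map (map (algebraMap A S)) := by
    rw [← unshift_shift t a (map (algebraMap A S) x)]
    have h2 := Ideal.mem_map_of_mem (unshift t a) h
    refine SetLike.le_def.1 ?_ h2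
    rw [Ideal.map_span, Ideal.span_le]
    rintro _ ⟨_, ⟨m, hm, rfl⟩, rfl⟩
    have hu : IsUnit (C (algebraMap A S (a 0)) : MvPolynomial (Fin t) S) :=
      (IsLocalization.map_units S (⟨a 0, Submonoid.mem_powers _⟩ : Submonoid.powers (a 0))).map C
    refine (Ideal.unit_mul_mem_iff_mem _ hu).1 ?_
    have h3 : C (algebraMap A S (a 0)) * unshift t a (X m) = map (algebraMap A S) (eqn t a m) := by
      rw [← unshift_shift t a (map (algebraMap A S) (eqn t a m)), shift_eqn, map_mul]
      congr 1
      exact ((unshift t a).commutes _).symm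
    rw [h3]
    exact Ideal.mem_map_of_mem _ (Ideal.subset_span ⟨m, hm, rfl⟩)
  letI : Algebra (MvPolynomial (Fin t) A) (MvPolynomial (Fin t) S) := algebraMvPolynomial
  haveI : IsLocalization ((Submonoid.powers (a 0)).map (C : A →+* MvPolynomial (Fin t) A)) (MvPolynomial (Fin t) S) :=
    MvPolynomial.isLocalization _ _
  obtain ⟨⟨z, s, ⟨_, ⟨e₁, rfl⟩, hs⟩⟩, hz⟩ :=
    (IsLocalization.mem_map_algebraMap_iff ((Submonoid.powers (a 0)).map (C : A →+* MvPolynomial (Fin t) A))
      (MvPolynomial (Fin t) S)).1 h1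
  change map (algebraMap A S) x * map (algebraMap A S) s = map (algebraMap A S) (z : MvPolynomial (Fin t) A) at hz
  rw [← map_mul] at hz
  obtain ⟨⟨_, _, ⟨e₂, rfl⟩, rfl⟩, hc⟩ := (IsLocalization.eq_iff_exists
    ((Submonoid.powers (a 0)).map (C : A →+* MvPolynomial (Fin t) A)) (MvPolynomial (Fin t) S)).1 hz
  refine ⟨e₂ + e₁, ?_⟩
  have : C (a 0 ^ e₂) * (x * C (a 0 ^ e₁)) ∈ eqns t a j := by
    have hc' : C (a 0 ^ e₂) * (x * s) = C (a 0 ^ e₂) * (z : MvPolynomial (Fin t) A) := hc
    rw [← hs] at hc'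
    rw [hc']
    exact Ideal.mul_mem_left _ _ z.2
  rw [smul_eq_C_mul, pow_add, C_mul]
  exact (show C (a 0 ^ e₂) * C (a 0 ^ e₁) * x = C (a 0 ^ e₂) * (x * C (a 0 ^ e₁)) by ring) ▸ this

theorem exists_pow_smul_of_mul_eqn_mem {j : Fin t} {x : MvPolynomial (Fin t) A}
    (h : eqn t a j * x ∈ eqns t a j) : ∃ e : ℕ, (a 0) ^ e • x ∈ eqns t a j := by
  refine mem_eqns_of_shift t a ?_
  have h2 : C (algebraMap A S (a 0)) * X j * shift t a (map (algebraMap A S) x) ∈
      Ideal.span ((X : Fin t → MvPolynomial (Fin t) S) '' {m | (m : ℕ) < j}) := by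
    rw [← shift_eqn, ← map_mul, ← map_mul]
    have hle : eqns t a j ≤ (Ideal.span ((X : Fin t → MvPolynomial (Fin t) S) '' {m | (m : ℕ) < j})).comap
        ((shift t a).toRingHom.comp (map (algebraMap A S))) := by
      rw [eqns, Ideal.span_le]
      rintro _ ⟨m, hm, rfl⟩
      show shift t a (map (algebraMap A S) (eqn t a m)) ∈
        Ideal.span ((X : Fin t → MvPolynomial (Fin t) S) '' {m | (m : ℕ) < j})
      rw [shift_eqn]
      exact Ideal.mul_mem_left _ _ (Ideal.subset_span ⟨m, hm, rfl⟩)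
    exact hle h
  rw [mul_assoc] at h2
  have hu : IsUnit (C (algebraMap A S (a 0)) : MvPolynomial (Fin t) S) :=
    (IsLocalization.map_units S (⟨a 0, Submonoid.mem_powers _⟩ : Submonoid.powers (a 0))).map C
  rw [Ideal.unit_mul_mem_iff_mem _ hu, mem_ideal_span_X_image] at h2
  rw [mem_ideal_span_X_image]
  intro s hs
  obtain ⟨m, hm, hne⟩ := h2 (Finsupp.single j 1 + s) (by
    rw [mem_support_iff, coeff_X_mul]
    exact mem_support_iff.1 hs)
  refine ⟨m, hm, ?_⟩
  rw [Finsupp.add_apply, Finsupp.single_eq_of_ne (fun hmj => by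
    have h3 : (m : ℕ) < (j : ℕ) := hm
    rw [hmj] at h3
    exact lt_irrefl _ h3), zero_add] at hne
  exact hne

theorem exists_pow_smul_eq_zero [IsNoetherianRing A] {C' : Type u} [CommRing C'] [Algebra A C'] [IsNoetherianRing C']
    (K : Ideal C') (c : A) (h : ∀ x ∈ K, ∃ e : ℕ, c ^ e • x = 0) : ∃ e : ℕ, ∀ x ∈ K, c ^ e • x = 0 := by
  obtain ⟨s, hs⟩ := IsNoetherian.noetherian K
  choose e he using fun x : s => h x.1 (hs ▸ Submodule.subset_span x.2)
  refine ⟨Finset.univ.sup e, fun x hx => ?_⟩
  rw [← hs] at hx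
  induction hx using Submodule.span_induction with
  | mem y hy =>
    obtain ⟨d, hd⟩ := Nat.exists_eq_add_of_le (Finset.le_sup (f := e) (Finset.mem_univ (⟨y, hy⟩ : s)))
    rw [hd, pow_add, mul_comm, mul_smul, he ⟨y, hy⟩, smul_zero]
  | zero => rw [smul_zero]
  | add y z _ _ hy hz => rw [smul_add, hy, hz, add_zero]
  | smul r y _ hy => rw [smul_eq_mul, ← mul_smul_comm, hy, mul_zero]

variable [IsNoetherianRing A]

/-- The tower of the equations. -/
theorem exists_kills_eqns (j : ℕ) (hj : j ≤ t) : ∃ c : ℕ, ∀ (N : ModuleCat.{u} A) (P : ProjectiveResolution N)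
    (i : ℕ), j < i → Kills P (a 0 ^ c) i (MvPolynomial (Fin t) A ⧸ eqns t a j) := by
  induction j with
  | zero =>
    refine ⟨0, fun N P i hi y => ?_⟩
    have h0 : eqns t a 0 = ⊥ := by simp [eqns]
    let e : (MvPolynomial (Fin t) A ⧸ eqns t a 0) ≃ₐ[A] MvPolynomial (Fin t) A :=
      (Ideal.quotientEquivAlgOfEq A h0).trans (AlgEquiv.quotientBot A _)
    haveI : Module.Flat A (MvPolynomial (Fin t) A ⧸ eqns t a 0) := Module.Flat.of_linearEquiv e.toLinearEquiv
    obtain ⟨q, rfl⟩ : ∃ q, i = q + 1 := ⟨i - 1, by omega⟩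
    let X := ModuleCat.of A (MvPolynomial (Fin t) A ⧸ eqns t a 0)
    have hex : HomologicalComplex.ExactAt (G P X) (q + 1) := by
      rw [HomologicalComplex.exactAt_iff' _ (q + 2) (q + 1) q (by simp) (by simp),
        ShortComplex.ShortExact.moduleCat_exact_iff_function_exact]
      have h1 := (ShortComplex.ShortExact.moduleCat_exact_iff_function_exact _).1 (P.exact_succ q)
      exact Module.Flat.lTensor_exact X h1
    haveI := ModuleCat.subsingleton_of_isZero hex.isZero_homology
    exact Subsingleton.elim _ _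
  | succ j ih =>
    obtain ⟨c, hc⟩ := ih (by omega)
    let m : Fin t := ⟨j, by omega⟩
    let Cj := MvPolynomial (Fin t) A ⧸ eqns t a j
    let f : Cj →ₗ[A] Cj := LinearMap.mulLeft A (Ideal.Quotient.mk (eqns t a j) (eqn t a m))
    let K : Ideal Cj := LinearMap.ker (LinearMap.mulLeft Cj (Ideal.Quotient.mk (eqns t a j) (eqn t a m)))
    obtain ⟨e, he⟩ := exists_pow_smul_eq_zero K (a 0) fun x hx => by
      obtain ⟨x, rfl⟩ := Ideal.Quotient.mk_surjective x
      have hx' : eqn t a m * x ∈ eqns t a j := Ideal.Quotient.eq_zero_iff_mem.1 ((map_mul _ _ _).trans hx)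
      obtain ⟨e, he⟩ := exists_pow_smul_of_mul_eqn_mem t a (j := m) hx'
      exact ⟨e, (map_smul (Ideal.Quotient.mkₐ A (eqns t a j)) _ x).symm.trans (Ideal.Quotient.eq_zero_iff_mem.2 he)⟩
    have hle : eqns t a j ≤ eqns t a (j + 1) :=
      Ideal.span_mono (Set.image_mono fun x (hx : (x : ℕ) < j) => Nat.lt_succ_of_lt hx)
    let g : Cj →ₗ[A] MvPolynomial (Fin t) A ⧸ eqns t a (j + 1) := (Ideal.Quotient.factorₐ A hle).toLinearMap
    have hg : Function.Surjective g := Ideal.Quotient.factor_surjective hle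
    have hfg : Function.Exact (LinearMap.range f).subtype g := fun y => by
      obtain ⟨y, rfl⟩ := Ideal.Quotient.mk_surjective y
      constructor
      · intro hy
        have hy' : y ∈ eqns t a (j + 1) := Ideal.Quotient.eq_zero_iff_mem.1 hy
        have hsup : eqns t a (j + 1) ≤ Ideal.span {eqn t a m} ⊔ eqns t a j := by
          rw [eqns, Ideal.span_le]
          rintro _ ⟨m', hm', rfl⟩
          rcases Nat.lt_succ_iff_lt_or_eq.1 hm' with hlt | heq
          · exact Ideal.mem_sup_right (Ideal.subset_span ⟨m', hlt, rfl⟩)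
          · rw [show m' = m from Fin.ext heq]
            exact Ideal.mem_sup_left (Ideal.mem_span_singleton_self _)
        obtain ⟨u, hu, v, hv, rfl⟩ := Submodule.mem_sup.1 (hsup hy')
        obtain ⟨w, rfl⟩ := Ideal.mem_span_singleton'.1 hu
        refine ⟨⟨_, Ideal.Quotient.mk _ w, rfl⟩, ?_⟩
        show Ideal.Quotient.mk _ (eqn t a m) * Ideal.Quotient.mk _ w = _
        rw [map_add, Ideal.Quotient.eq_zero_iff_mem.2 hv, add_zero, map_mul, mul_comm]
      · rintro ⟨⟨_, w, rfl⟩, hw⟩
        rw [← hw]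
        obtain ⟨w, rfl⟩ := Ideal.Quotient.mk_surjective w
        show Ideal.Quotient.factor hle (Ideal.Quotient.mk _ (eqn t a m) * Ideal.Quotient.mk _ w) = 0
        rw [← map_mul, Ideal.Quotient.factor_mk]
        exact Ideal.Quotient.eq_zero_iff_mem.2 (Ideal.mul_mem_right _ _
          (Ideal.subset_span ⟨m, Nat.lt_succ_self j, rfl⟩))
    refine ⟨c + (c + e), fun N P i hi => ?_⟩
    obtain ⟨q, rfl⟩ : ∃ q, i = q + 2 := ⟨i - 2, by omega⟩
    rw [pow_add, pow_add]
    refine kills_right P (LinearMap.range f).injective_subtype hfg hg (q + 1) (hc N P (q + 2) (by omega)) ?_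
    exact kills_right P (LinearMap.ker f).injective_subtype (fun y => by
        rw [← Subtype.coe_inj]
        exact ⟨fun h => ⟨⟨y, h⟩, rfl⟩, fun ⟨z, hz⟩ => hz ▸ z.2⟩)
      f.surjective_rangeRestrict q (hc N P (q + 1) (by omega))
      (kills_of_forall P (fun x => Subtype.ext (he x.1 (LinearMap.mem_ker.2 (LinearMap.mem_ker.1 x.2)))) q)

/-- The presentation of the affine blow-up algebra. -/
def pres : MvPolynomial (Fin t) A →ₐ[A] BlowUp.affineAlgebra A (Ideal.span (Set.range a)) (a 0) :=
  aeval fun m => ⟨frac t a m, Algebra.subset_adjoin ⟨a m.succ, Ideal.subset_span ⟨m.succ, rfl⟩, rfl⟩⟩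

theorem coe_pres (x : MvPolynomial (Fin t) A) :
    (pres t a x : S) = constantCoeff (shift t a (map (algebraMap A S) x)) := by
  induction x using MvPolynomial.induction_on with
  | C r => simp [pres, shift, algebraMap_eq]
  | add p q hp hq => simp [map_add, hp, hq]
  | mul_X p m hp =>
    rw [map_mul, Subalgebra.coe_mul, hp, map_mul, map_mul, map_mul]
    congr 1
    simp [pres, shift]

theorem pres_surjective : Function.Surjective (pres t a) := by
  rintro ⟨z, hz⟩
  have hle : BlowUp.affineAlgebra A (Ideal.span (Set.range a)) (a 0) ≤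
      ((BlowUp.affineAlgebra A (Ideal.span (Set.range a)) (a 0)).val.comp (pres t a)).range := by
    refine Algebra.adjoin_le ?_
    rintro _ ⟨x, hx, rfl⟩
    induction hx using Submodule.span_induction with
    | mem y hy =>
      obtain ⟨i, rfl⟩ := hy
      refine Fin.cases ⟨1, ?_⟩ (fun m => ⟨X m, ?_⟩) i
      · show ((pres t a 1 : _) : S) = _
        rw [map_one, OneMemClass.coe_one, IsLocalization.mk'_self]
      · show ((pres t a (X m) : _) : S) = _
        rw [pres, aeval_X]
        rfl
    | zero =>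
      rw [IsLocalization.mk'_zero]
      exact zero_mem _
    | add y w _ _ hy hw =>
      have : IsLocalization.mk' S (y + w) (⟨a 0, Submonoid.mem_powers _⟩ : Submonoid.powers (a 0)) =
          IsLocalization.mk' S y ⟨a 0, Submonoid.mem_powers _⟩ + IsLocalization.mk' S w ⟨a 0, Submonoid.mem_powers _⟩ := by
        rw [IsLocalization.mk'_eq_iff_eq_mul, add_mul, IsLocalization.mk'_spec, IsLocalization.mk'_spec, map_add]
      rw [this]
      exact add_mem hy hw
    | smul r y _ hy =>
      rw [smul_eq_mul, ← IsLocalization.smul_mk' r y]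
      exact Subalgebra.smul_mem _ hy r
  obtain ⟨p, hp⟩ := hle hz
  exact ⟨p, Subtype.ext hp⟩

theorem exists_mul_of_mem_pow (c : ℕ) {x : A} (hx : x ∈ Ideal.span (Set.range a) ^ c) :
    ∃ b : BlowUp.affineAlgebra A (Ideal.span (Set.range a)) (a 0), algebraMap A _ x = a 0 ^ c • b := by
  induction c generalizing x with
  | zero => exact ⟨algebraMap A _ x, by rw [pow_zero, one_smul]⟩
  | succ c ih =>
    rw [pow_succ] at hx
    induction hx using Submodule.mul_induction_on' with
    | mem_mul_mem u hu v hv =>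
      obtain ⟨b, hb⟩ := ih hu
      let w : BlowUp.affineAlgebra A (Ideal.span (Set.range a)) (a 0) :=
        ⟨IsLocalization.mk' S v ⟨a 0, Submonoid.mem_powers _⟩, Algebra.subset_adjoin ⟨v, hv, rfl⟩⟩
      have hw : algebraMap A _ v = a 0 • w := Subtype.ext (by
        show algebraMap A S v = a 0 • (IsLocalization.mk' S v _ : S)
        rw [Algebra.smul_def, IsLocalization.mk'_spec' S v (⟨a 0, Submonoid.mem_powers _⟩ : Submonoid.powers (a 0))])
      exact ⟨b * w, by rw [map_mul, hb, hw, smul_mul_smul_comm, pow_succ]⟩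
    | add u _ v _ hu hv =>
      obtain ⟨b, hb⟩ := hu
      obtain ⟨b', hb'⟩ := hv
      exact ⟨b + b', by rw [map_add, hb, hb', smul_add]⟩

/-- High Tor modules of an affine blow-up algebra are killed by a power of the ideal. -/
theorem exists_pow_kills : ∃ c : ℕ, ∀ (M : Type u) [AddCommGroup M] [Module A M] (i : ℕ), t + 1 ≤ i →
    ∀ x ∈ Ideal.span (Set.range a) ^ c,
      ∀ y : DRing.Tor A i (BlowUp.affineAlgebra A (Ideal.span (Set.range a)) (a 0)) M, x • y = 0 := by
  obtain ⟨c, hc⟩ := exists_kills_eqns t a t le_rfl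
  let B := BlowUp.affineAlgebra A (Ideal.span (Set.range a)) (a 0)
  have hker : ∀ x ∈ eqns t a t, pres t a x = 0 := by
    intro x hx
    refine Submodule.span_induction ?_ (map_zero _) (fun y z _ _ hy hz => by rw [map_add, hy, hz, add_zero])
      (fun r y _ hy => by rw [smul_eq_mul, map_mul, hy, mul_zero]) hx
    rintro _ ⟨m, -, rfl⟩
    refine Subtype.ext ?_
    rw [coe_pres, shift_eqn]
    simp
  let π : (MvPolynomial (Fin t) A ⧸ eqns t a t) →ₐ[A] B := Ideal.Quotient.liftₐ (eqns t a t) (pres t a) hker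
  have hπ : Function.Surjective π := fun b => by
    obtain ⟨p, rfl⟩ := pres_surjective t a b
    exact ⟨Ideal.Quotient.mk _ p, Ideal.Quotient.lift_mk _ _ _⟩
  obtain ⟨e, he⟩ := exists_pow_smul_eq_zero (RingHom.ker π.toRingHom) (a 0) fun x hx => by
    obtain ⟨x, rfl⟩ := Ideal.Quotient.mk_surjective x
    have hx0 : pres t a x = 0 := hx
    have h0 : constantCoeff (shift t a (map (algebraMap A S) x)) = 0 := by rw [← coe_pres, hx0]; rfl
    obtain ⟨e, he⟩ := mem_eqns_of_shift t a (j := t) (x := x) (by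
      rw [mem_ideal_span_X_image]
      intro s hs
      obtain ⟨m, hm⟩ : ∃ m, s m ≠ 0 := by
        by_contra hcon
        push Not at hcon
        rw [show s = 0 from Finsupp.ext hcon, mem_support_iff, ← constantCoeff_eq] at hs
        exact hs h0
      exact ⟨m, m.isLt, hm⟩)
    exact ⟨e, (map_smul (Ideal.Quotient.mkₐ A (eqns t a t)) _ x).symm.trans (Ideal.Quotient.eq_zero_iff_mem.2 he)⟩
  refine ⟨c + e, fun M _ _ i hi x hx y => ?_⟩
  obtain ⟨q, rfl⟩ : ∃ q, i = q + 1 := ⟨i - 1, by omega⟩
  let P := projectiveResolution (ModuleCat.of A M)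
  have hkill : Kills P (a 0 ^ (c + e)) (q + 1) B := by
    rw [pow_add]
    exact kills_right P (LinearMap.ker π.toLinearMap).injective_subtype
      (LinearMap.exact_subtype_ker_map π.toLinearMap) (g := π.toLinearMap) hπ q (hc _ P (q + 1) hi)
      (kills_of_forall P (fun z => Subtype.ext (he z.1 z.2)) q)
  obtain ⟨b, hb⟩ := exists_mul_of_mem_pow t a (c + e) hx
  have hx' : Kills P x (q + 1) B := hkill.of_factor P (LinearMap.mulLeft A b) fun z => by
    show x • z = b * (a 0 ^ (c + e) • z)
    rw [Algebra.smul_def, hb, smul_mul_assoc, mul_smul_comm]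
  let φ := (P.isoLeftDerivedObj ((MonoidalCategory.tensoringLeft (ModuleCat.{u} A)).obj (ModuleCat.of A B)) (q + 1)).toLinearEquiv
  apply φ.injective
  exact ((φ.map_smul x y).trans (hx' (φ y))).trans (map_zero φ).symm

end Blow

end BlowTorLib
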